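import Mathlib
import Cfsg.Agent.Lib.Helper93.M11U.Defs
import Cfsg.Agent.Lib.Helper5.NseAlt

/-!
# S0420 team project, package [A5SUM]: character sums over a subgroup isomorphic to `A₅`
-/

set_option autoImplicit false

namespace Cfsg.Agent.Lib.Helper64.M11U

open Cfsg.Agent.Lib.Helper93.M11U Equiv Equiv.Perm

universe u

/-- the sum over a copy of `A₅` of a function which is constant on the elements of each of the
orders `2, 3, 5` -/
theorem sumOn_A5 {G : Type u} [Group G] [Finite G] (χ : G → ℂ) (X : Subgroup G)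
    (e : X ≃* alternatingGroup (Fin 5)) (d v2 v3 v5 : ℂ) (h1 : χ 1 = d)
    (h2 : ∀ t : G, orderOf t = 2 → χ t = v2) (h3 : ∀ t : G, orderOf t = 3 → χ t = v3)
    (h5 : ∀ t : G, orderOf t = 5 → χ t = v5) :
    sumOn χ X = d + 15 * v2 + 20 * v3 + 24 * v5 := by
  have : Fintype X := Fintype.ofFinite X
  unfold sumOn
  rw [finsum_eq_sum_of_fintype]
  obtain ⟨FF, hFF⟩ : ∃ FF : Perm (Fin 5) → ℂ, ∀ g, FF g =
      if g = 1 then d else if g ^ 2 = 1 then v2 else if g ^ 3 = 1 then v3 else v5 :=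
    ⟨fun g => if g = 1 then d else if g ^ 2 = 1 then v2 else if g ^ 3 = 1 then v3 else v5,
      fun _ => rfl⟩
  have hord : ∀ σ : alternatingGroup (Fin 5),
      orderOf (((e.symm σ : X)) : G) = orderOf (σ : Perm (Fin 5)) := by
    intro σ
    rw [Subgroup.orderOf_coe, MulEquiv.orderOf_eq, ← Subgroup.orderOf_coe]
  have key : ∀ σ : alternatingGroup (Fin 5),
      χ ((e.symm σ : X) : G) = FF (σ : Perm (Fin 5)) := by
    intro σ
    rw [hFF]
    have hsign : sign (σ : Perm (Fin 5)) = 1 := Equiv.Perm.mem_alternatingGroup.mp σ.2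
    by_cases c1 : (σ : Perm (Fin 5)) = 1
    · rw [if_pos c1]
      have hσ : σ = 1 := Subtype.ext c1
      rw [hσ, map_one, Subgroup.coe_one, h1]
    · rw [if_neg c1]
      by_cases c2 : (σ : Perm (Fin 5)) ^ 2 = 1
      · rw [if_pos c2]
        have : Fact (Nat.Prime 2) := ⟨Nat.prime_two⟩
        exact h2 _ (by rw [hord]; exact orderOf_eq_prime c2 c1)
      · rw [if_neg c2]
        by_cases c3 : (σ : Perm (Fin 5)) ^ 3 = 1
        · rw [if_pos c3]
          have : Fact (Nat.Prime 3) := ⟨Nat.prime_three⟩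
          exact h3 _ (by rw [hord]; exact orderOf_eq_prime c3 c1)
        · rw [if_neg c3]
          have c5 : (σ : Perm (Fin 5)) ^ 5 = 1 := by
            rcases Cfsg.Agent.Lib.Helper5.Nse.spec5 _ hsign with h | h | h
            · exact (c2 h).elim
            · exact (c3 h).elim
            · exact h
          have : Fact (Nat.Prime 5) := ⟨Nat.prime_five⟩
          exact h5 _ (by rw [hord]; exact orderOf_eq_prime c5 c1)
  have hsum : ∑ h : X, χ (h : G) = ∑ σ : alternatingGroup (Fin 5), χ ((e.symm σ : X) : G) :=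
    (Equiv.sum_comp e.symm.toEquiv (fun h : X => χ (h : G))).symm
  rw [hsum, Finset.sum_congr rfl (fun σ _ => key σ)]
  have hsub : ∑ σ : alternatingGroup (Fin 5), FF (σ : Perm (Fin 5))
      = ∑ g ∈ Finset.univ.filter (fun g : Perm (Fin 5) => sign g = 1), FF g := by
    rw [Finset.sum_subtype (Finset.univ.filter (fun g : Perm (Fin 5) => sign g = 1))
      (p := fun g => g ∈ alternatingGroup (Fin 5))
      (by intro g; simp [Equiv.Perm.mem_alternatingGroup]) FF]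
  rw [hsub]
  -- pointwise decomposition
  have hpt : ∀ g ∈ Finset.univ.filter (fun g : Perm (Fin 5) => sign g = 1), FF g =
      (if g = 1 then d else 0) + (if (sign g = 1 ∧ g ^ 2 = 1 ∧ g ≠ 1) then v2 else 0)
        + (if (sign g = 1 ∧ g ^ 3 = 1 ∧ g ≠ 1) then v3 else 0)
        + (if (sign g = 1 ∧ g ^ 5 = 1 ∧ g ≠ 1) then v5 else 0) := by
    intro g hg
    have hsign : sign g = 1 := (Finset.mem_filter.1 hg).2
    rw [hFF]
    by_cases c1 : g = 1
    · subst c1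
      simp
    · have n23 : g ^ 2 = 1 → g ^ 3 = 1 → False := by
        intro a b
        apply c1
        calc g = g ^ 3 * (g ^ 2)⁻¹ := by group
          _ = 1 := by rw [a, b]; simp
      have n25 : g ^ 2 = 1 → g ^ 5 = 1 → False := by
        intro a b
        apply c1
        calc g = g ^ 5 * ((g ^ 2) ^ 2)⁻¹ := by group
          _ = 1 := by rw [a, b]; simp
      have n35 : g ^ 3 = 1 → g ^ 5 = 1 → False := by
        intro a b
        apply c1
        calc g = (g ^ 3) ^ 2 * (g ^ 5)⁻¹ := by group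
          _ = 1 := by rw [a, b]; simp
      by_cases c2 : g ^ 2 = 1
      · have c3 : ¬ g ^ 3 = 1 := fun h => n23 c2 h
        have c5 : ¬ g ^ 5 = 1 := fun h => n25 c2 h
        simp [c1, c2, c3, c5, hsign]
      · by_cases c3 : g ^ 3 = 1
        · have c5 : ¬ g ^ 5 = 1 := fun h => n35 c3 h
          simp [c1, c2, c3, c5, hsign]
        · have c5 : g ^ 5 = 1 := by
            rcases Cfsg.Agent.Lib.Helper5.Nse.spec5 _ hsign with h | h | h
            · exact (c2 h).elim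
            · exact (c3 h).elim
            · exact h
          simp [c1, c2, c3, c5, hsign]
  rw [Finset.sum_congr rfl hpt, Finset.sum_add_distrib, Finset.sum_add_distrib,
    Finset.sum_add_distrib]
  have s1 : ∑ g ∈ Finset.univ.filter (fun g : Perm (Fin 5) => sign g = 1),
      (if g = 1 then d else 0) = d := by
    rw [Finset.sum_ite_eq' (Finset.univ.filter (fun g : Perm (Fin 5) => sign g = 1)) 1
      (fun _ => d)]
    simp
  have sk : ∀ (k : ℕ) (v : ℂ), ∑ g ∈ Finset.univ.filter (fun g : Perm (Fin 5) => sign g = 1),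
      (if (sign g = 1 ∧ g ^ k = 1 ∧ g ≠ 1) then v else 0) =
      ((Finset.univ.filter (fun g : Perm (Fin 5) => sign g = 1 ∧ g ^ k = 1 ∧ g ≠ 1)).card : ℂ)
        * v := by
    intro k v
    have hfilt : (Finset.univ.filter (fun g : Perm (Fin 5) => sign g = 1)).filter
        (fun g => sign g = 1 ∧ g ^ k = 1 ∧ g ≠ 1) =
        Finset.univ.filter (fun g : Perm (Fin 5) => sign g = 1 ∧ g ^ k = 1 ∧ g ≠ 1) := by
      ext g
      simp only [Finset.mem_filter, Finset.mem_univ, true_and]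
      tauto
    rw [← Finset.sum_filter, Finset.sum_const, nsmul_eq_mul, hfilt]
  rw [s1, sk 2 v2, sk 3 v3, sk 5 v5, Cfsg.Agent.Lib.Helper5.Nse.cnt5_2,
    Cfsg.Agent.Lib.Helper5.Nse.cnt5_3, Cfsg.Agent.Lib.Helper5.Nse.cnt5_5]
  norm_num

/-- **Package [A5SUM] of S0420** -/
theorem pkgA5Sum : Cfsg.Agent.Lib.Helper93.M11U.PkgA5Sum.{u} := by
  intro G _ _ T X hX
  obtain ⟨e⟩ := hX
  obtain ⟨d1, d2, d3, d4, d5, d6, d7, d8, d9⟩ := T.deg
  refine ⟨?_, ?_, ?_, ?_, ?_, ?_, ?_, ?_, ?_, ?_⟩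
  · rw [sumOn_A5 (T.χ₁ : G → ℂ) X e 1 1 1 1 (T.one 1) (fun t _ => T.one t) (fun t _ => T.one t)
      (fun t _ => T.one t)]
    norm_num
  · rw [sumOn_A5 (T.ψ : G → ℂ) X e 55 (-1) 1 0 d1 (fun t ht => (T.v2 t ht).1)
      (fun t ht => (T.v3 t ht).1) (fun t ht => (T.v5 t ht).1)]
    norm_num
  · rw [sumOn_A5 (T.χ45 : G → ℂ) X e 45 (-3) 0 0 d2 (fun t ht => (T.v2 t ht).2.1)
      (fun t ht => (T.v3 t ht).2.1) (fun t ht => (T.v5 t ht).2.1)]
    norm_num
  · rw [sumOn_A5 (T.χa : G → ℂ) X e 10 2 1 0 d3 (fun t ht => (T.v2 t ht).2.2.1)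
      (fun t ht => (T.v3 t ht).2.2.1) (fun t ht => (T.v5 t ht).2.2.1)]
    norm_num
  · rw [sumOn_A5 (T.χb : G → ℂ) X e 10 (-2) 1 0 d4 (fun t ht => (T.v2 t ht).2.2.2.1)
      (fun t ht => (T.v3 t ht).2.2.2.1) (fun t ht => (T.v5 t ht).2.2.2.1)]
    norm_num
  · rw [sumOn_A5 (T.χc : G → ℂ) X e 10 (-2) 1 0 d5 (fun t ht => (T.v2 t ht).2.2.2.2.1)
      (fun t ht => (T.v3 t ht).2.2.2.2.1) (fun t ht => (T.v5 t ht).2.2.2.2.1)]
    norm_num
  · rw [sumOn_A5 (T.η₁ : G → ℂ) X e 16 0 (-2) 1 d6 (fun t ht => (T.v2 t ht).2.2.2.2.2.1)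
      (fun t ht => (T.v3 t ht).2.2.2.2.2.1) (fun t ht => (T.v5 t ht).2.2.2.2.2.1)]
    norm_num
  · rw [sumOn_A5 (T.η₂ : G → ℂ) X e 16 0 (-2) 1 d7 (fun t ht => (T.v2 t ht).2.2.2.2.2.2.1)
      (fun t ht => (T.v3 t ht).2.2.2.2.2.2.1) (fun t ht => (T.v5 t ht).2.2.2.2.2.2.1)]
    norm_num
  · rw [sumOn_A5 (T.θ₁ : G → ℂ) X e 11 3 2 1 d8 (fun t ht => (T.v2 t ht).2.2.2.2.2.2.2.1)
      (fun t ht => (T.v3 t ht).2.2.2.2.2.2.2.1) (fun t ht => (T.v5 t ht).2.2.2.2.2.2.2.1)]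
    norm_num
  · rw [sumOn_A5 (T.θ₂ : G → ℂ) X e 44 4 (-1) (-1) d9 (fun t ht => (T.v2 t ht).2.2.2.2.2.2.2.2)
      (fun t ht => (T.v3 t ht).2.2.2.2.2.2.2.2) (fun t ht => (T.v5 t ht).2.2.2.2.2.2.2.2)]
    norm_num

end Cfsg.Agent.Lib.Helper64.M11U
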