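import Mathlib
import Cfsg.Agent.Lib.Helper93.M11U.Defs
import Cfsg.Agent.Lib.Helper80.Orthogonality
import Cfsg.Agent.Lib.Helper81.CharCore

/-!
# S0420 team project, package [REGSUM]: the regular character summed over a subgroup
-/

set_option autoImplicit false

namespace Cfsg.Agent.Lib.Helper64.M11U

open Cfsg.Agent.Lib.Helper93.M11U

open scoped ComplexConjugate

universe u

/-- **Package [REGSUM] of S0420** -/
theorem pkgRegSum : Cfsg.Agent.Lib.Helper93.M11U.PkgRegSum.{u} := by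
  intro G _ _ T H
  classical
  have : Fintype G := Fintype.ofFinite G
  have : Fintype H := Fintype.ofFinite H
  have hfinI : Finite (Cfsg.IrrCharacter G) := Cfsg.Agent.Lib.Helper81.irr_finite G
  have : Fintype (Cfsg.IrrCharacter G) := Fintype.ofFinite (Cfsg.IrrCharacter G)
  obtain ⟨d1, d2, d3, d4, d5, d6, d7, d8, d9⟩ := T.deg
  have key : ∀ h : G, (T.χ₁ : G → ℂ) h + 55 * (T.ψ : G → ℂ) h + 45 * (T.χ45 : G → ℂ) h +
      10 * (T.χa : G → ℂ) h + 10 * (T.χb : G → ℂ) h + 10 * (T.χc : G → ℂ) h +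
      16 * (T.η₁ : G → ℂ) h + 16 * (T.η₂ : G → ℂ) h + 11 * (T.θ₁ : G → ℂ) h +
      44 * (T.θ₂ : G → ℂ) h = if h = 1 then (Nat.card G : ℂ) else 0 := by
    intro h
    have h1 := Cfsg.Agent.Lib.Helper80.second_orthogonality h (1 : G)
    rw [← (Equiv.ofBijective _ T.bij).sum_comp] at h1
    simp only [Equiv.ofBijective_apply, Fin.sum_univ_succ, Fin.sum_univ_zero] at h1
    simp only [Matrix.cons_val_zero, Matrix.cons_val_succ, Matrix.cons_val_one,
      Fin.succ_zero_eq_one] at h1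
    rw [d1, d2, d3, d4, d5, d6, d7, d8, d9, T.one 1] at h1
    simp only [map_ofNat, map_one, isConj_one_left] at h1
    by_cases hh : h = 1
    · rw [if_pos hh] at h1 ⊢
      have hcard : Nat.card ↥(Subgroup.centralizer ({h} : Set G)) = Nat.card G := by
        have htop : Subgroup.centralizer ({h} : Set G) = ⊤ := by
          rw [Subgroup.centralizer_eq_top_iff_subset, hh]
          intro x hx
          rw [Set.mem_singleton_iff.1 hx]
          exact Subgroup.one_mem _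
        rw [htop, Subgroup.card_top]
      rw [← hcard, ← h1]
      ring
    · rw [if_neg hh] at h1 ⊢
      rw [← h1]
      ring
  unfold sumOn
  simp only [finsum_eq_sum_of_fintype]
  have e : (∑ h : H, (T.χ₁ : G → ℂ) h) + 55 * ∑ h : H, (T.ψ : G → ℂ) h +
      45 * ∑ h : H, (T.χ45 : G → ℂ) h + 10 * ∑ h : H, (T.χa : G → ℂ) h +
      10 * ∑ h : H, (T.χb : G → ℂ) h + 10 * ∑ h : H, (T.χc : G → ℂ) h +
      16 * ∑ h : H, (T.η₁ : G → ℂ) h + 16 * ∑ h : H, (T.η₂ : G → ℂ) h +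
      11 * ∑ h : H, (T.θ₁ : G → ℂ) h + 44 * ∑ h : H, (T.θ₂ : G → ℂ) h =
      ∑ h : H, ((T.χ₁ : G → ℂ) h + 55 * (T.ψ : G → ℂ) h + 45 * (T.χ45 : G → ℂ) h +
        10 * (T.χa : G → ℂ) h + 10 * (T.χb : G → ℂ) h + 10 * (T.χc : G → ℂ) h +
        16 * (T.η₁ : G → ℂ) h + 16 * (T.η₂ : G → ℂ) h + 11 * (T.θ₁ : G → ℂ) h +
        44 * (T.θ₂ : G → ℂ) h) := by
    simp only [Finset.mul_sum, Finset.sum_add_distrib]
  have e2 : ∑ h : H, ((T.χ₁ : G → ℂ) h + 55 * (T.ψ : G → ℂ) h + 45 * (T.χ45 : G → ℂ) h +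
        10 * (T.χa : G → ℂ) h + 10 * (T.χb : G → ℂ) h + 10 * (T.χc : G → ℂ) h +
        16 * (T.η₁ : G → ℂ) h + 16 * (T.η₂ : G → ℂ) h + 11 * (T.θ₁ : G → ℂ) h +
        44 * (T.θ₂ : G → ℂ) h) = ∑ h : H, (if (h : G) = 1 then (Nat.card G : ℂ) else 0) :=
    Finset.sum_congr rfl (fun h _ => key (h : G))
  rw [e, e2]
  rw [Finset.sum_eq_single (1 : H)]
  · simp
  · intro b _ hb
    rw [if_neg]
    intro h
    exact hb (Subtype.ext h)
  · intro h
    exact absurd (Finset.mem_univ _) h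

end Cfsg.Agent.Lib.Helper64.M11U
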