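import Mathlib
import Cfsg.Agent.Lib.Helper93.M11U.Defs

/-!
# S0420 team project, package [Y0FIX]: `Y0` has a one-dimensional fixed space in `χa`
-/

set_option autoImplicit false

namespace Cfsg.Agent.Lib.Helper64.M11U

open Cfsg.Agent.Lib.Helper93.M11U

universe u

theorem isChar_of_irr {G : Type u} [Group G] (χ : Cfsg.IrrCharacter G) :
    Cfsg.IsCharacter G (χ : G → ℂ) := by
  obtain ⟨n, ρ, -, h⟩ := χ.2
  exact ⟨n, ρ, h⟩

/-- **Package [Y0FIX] of S0420** -/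
theorem pkgY0Fix : Cfsg.Agent.Lib.Helper93.M11U.PkgY0Fix.{u} := by
  intro G _ _ T hG C hX hY hFix hReg hA5
  obtain ⟨hXiso, hXcard, -, -, -⟩ := hX
  obtain ⟨hYcard, hXY, -, -⟩ := hY
  obtain ⟨a1, a2, a3, a4, a5, a6, a7, a8, a9, a10⟩ := hA5 G T (X0 C) hXiso
  have hR := hReg G T (Y0 C)
  have gen : ∀ χ : Cfsg.IrrCharacter G, ∃ d' d : ℕ,
      sumOn (χ : G → ℂ) (Y0 C) = 120 * (d' : ℂ) ∧ sumOn (χ : G → ℂ) (X0 C) = 60 * (d : ℂ) ∧
        d' ≤ d := by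
    intro χ
    obtain ⟨dd, h1, h2⟩ := hFix G (χ : G → ℂ) (isChar_of_irr χ)
    refine ⟨dd (Y0 C), dd (X0 C), ?_, ?_, h2 _ _ hXY⟩
    · rw [h1, hYcard]; norm_num
    · rw [h1, hXcard]; norm_num
  have s1 : sumOn (T.χ₁ : G → ℂ) (Y0 C) = 120 := by
    have : Fintype (Y0 C) := Fintype.ofFinite _
    unfold sumOn
    rw [finsum_eq_sum_of_fintype]
    simp only [T.one, Finset.sum_const, Finset.card_univ, nsmul_eq_mul, mul_one]
    rw [← Nat.card_eq_fintype_card, hYcard]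
    norm_num
  obtain ⟨p1, q1, e1, f1, l1⟩ := gen T.χ₁
  obtain ⟨p2, q2, e2, f2, l2⟩ := gen T.ψ
  obtain ⟨p3, q3, e3, f3, l3⟩ := gen T.χ45
  obtain ⟨p4, q4, e4, f4, l4⟩ := gen T.χa
  obtain ⟨p5, q5, e5, f5, l5⟩ := gen T.χb
  obtain ⟨p6, q6, e6, f6, l6⟩ := gen T.χc
  obtain ⟨p7, q7, e7, f7, l7⟩ := gen T.η₁
  obtain ⟨p8, q8, e8, f8, l8⟩ := gen T.η₂
  obtain ⟨p9, q9, e9, f9, l9⟩ := gen T.θ₁
  obtain ⟨p10, q10, e10, f10, l10⟩ := gen T.θ₂
  rw [a2] at f2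
  rw [a3] at f3
  rw [a4] at f4
  rw [a5] at f5
  rw [a6] at f6
  rw [a7] at f7
  rw [a8] at f8
  rw [a9] at f9
  rw [a10] at f10
  have e1' := e1
  rw [s1] at e1'
  have g1 : 120 = 120 * p1 := by exact_mod_cast e1'
  have g2 : 60 = 60 * q2 := by exact_mod_cast f2
  have g3 : 0 = 60 * q3 := by exact_mod_cast f3
  have g4 : 60 = 60 * q4 := by exact_mod_cast f4
  have g5 : 0 = 60 * q5 := by exact_mod_cast f5
  have g6 : 0 = 60 * q6 := by exact_mod_cast f6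
  have g7 : 0 = 60 * q7 := by exact_mod_cast f7
  have g8 : 0 = 60 * q8 := by exact_mod_cast f8
  have g9 : 120 = 60 * q9 := by exact_mod_cast f9
  have g10 : 60 = 60 * q10 := by exact_mod_cast f10
  rw [e1, e2, e3, e4, e5, e6, e7, e8, e9, e10, hG] at hR
  have hN : 120 * p1 + 55 * (120 * p2) + 45 * (120 * p3) + 10 * (120 * p4) + 10 * (120 * p5) +
      10 * (120 * p6) + 16 * (120 * p7) + 16 * (120 * p8) + 11 * (120 * p9) +
      44 * (120 * p10) = 7920 := by exact_mod_cast hR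
  have hp4 : p4 = 1 := by omega
  rw [e4, hp4]
  norm_num

end Cfsg.Agent.Lib.Helper64.M11U
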